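import Mathlib
import Groth.Agent.GorLib.LocalDuality
import Groth.Agent.InjHullLib.Matlis

/-! Canonical modules: the trace, the duality in the top degree, uniqueness, associated primes. -/

set_option autoImplicit false
universe u

namespace Groth.Agent.CanonLib

open CategoryTheory Limits IsLocalRing LocCohLib

variable {R : Type u} [CommRing R] [IsNoetherianRing R]

lemma map_surjective_top {I : Ideal R} {n : ℕ} (hcd : LocCoh.CdLE R I n) {M N : Type u} [AddCommGroup M] [Module R M]
    [AddCommGroup N] [Module R N] (f : M →ₗ[R] N) (hf : Function.Surjective f) :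
    Function.Surjective ((localCohomology I n).map (ModuleCat.ofHom f)).hom := by
  let S : ShortComplex (ModuleCat.{u} R) := ShortComplex.mk (ModuleCat.ofHom (LinearMap.ker f).subtype)
    (ModuleCat.ofHom f) (by ext x; exact x.2)
  have hS : S.ShortExact :=
    { exact := (ShortComplex.moduleCat_exact_iff _).mpr fun x hx => ⟨⟨x, hx⟩, rfl⟩
      mono_f := (ModuleCat.mono_iff_injective _).mpr Subtype.val_injective
      epi_g := (ModuleCat.epi_iff_surjective _).mpr hf }
  intro z
  haveI := hcd (S.X₁ : Type u) (n + 1) (Nat.lt_succ_self n)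
  exact exists_of_δ_eq_zero I hS n z (Subsingleton.elim (α := LocCoh.H I (n + 1) (S.X₁ : Type u)) _ _)

section trace

variable (I : Ideal R) (n : ℕ) {K : Type u} [AddCommGroup K] [Module R K] {E : Type u} [AddCommGroup E] [Module R E]

/-- `z ↦ H(r ↦ r x) z`. -/
noncomputable def spanH {M : Type u} [AddCommGroup M] [Module R M] (x : M) :
    LocCoh.H I n R →ₗ[R] LocCoh.H I n M :=
  ((localCohomology I n).map (ModuleCat.ofHom (LinearMap.toSpanSingleton R M x))).hom

lemma map_spanH {M N : Type u} [AddCommGroup M] [Module R M] [AddCommGroup N] [Module R N] (φ : M →ₗ[R] N) (x : M)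
    (z : LocCoh.H I n R) :
    ((localCohomology I n).map (ModuleCat.ofHom φ)).hom (spanH I n x z) = spanH I n (φ x) z := by
  rw [spanH, spanH, show ModuleCat.ofHom (LinearMap.toSpanSingleton R N (φ x)) =
    ModuleCat.ofHom (LinearMap.toSpanSingleton R M x) ≫ ModuleCat.ofHom φ from by ext; simp, Functor.map_comp]
  rfl

lemma spanH_one (z : LocCoh.H I n R) : spanH I n (1 : R) z = z := by
  rw [spanH, show ModuleCat.ofHom (LinearMap.toSpanSingleton R R (1 : R)) = 𝟙 (ModuleCat.of R R) from by ext; simp,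
    CategoryTheory.Functor.map_id]
  rfl

lemma spanH_smul {M : Type u} [AddCommGroup M] [Module R M] (r : R) (x : M) (z : LocCoh.H I n R) :
    spanH I n (r • x) z = r • spanH I n x z := by
  rw [spanH, spanH, show ModuleCat.ofHom (LinearMap.toSpanSingleton R M (r • x)) =
    ModuleCat.ofHom (LinearMap.toSpanSingleton R M x) ≫ (r • 𝟙 (ModuleCat.of R M)) from by
      ext; simp, Functor.map_comp, ModuleCat.hom_comp, LinearMap.comp_apply, map_smul_id]

lemma pi_decomp (r : ℕ) : 𝟙 (ModuleCat.of R (Fin r → R)) = ∑ a : Fin r,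
    ModuleCat.ofHom (LinearMap.proj a : (Fin r → R) →ₗ[R] R) ≫
      ModuleCat.ofHom (LinearMap.toSpanSingleton R (Fin r → R) (Pi.single a 1)) := by
  refine ModuleCat.hom_ext (LinearMap.ext fun x => funext fun j => ?_)
  simp [Pi.single_apply, Finset.sum_apply]

lemma pi_expand (r : ℕ) (v : LocCoh.H I n (Fin r → R)) :
    v = ∑ a : Fin r, spanH I n (Pi.single a (1 : R))
      (((localCohomology I n).map (ModuleCat.ofHom (LinearMap.proj a : (Fin r → R) →ₗ[R] R))).hom v) := by
  have := congrArg (fun φ => ((localCohomology I n).map φ).hom v) (pi_decomp (R := R) r)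
  simpa only [CategoryTheory.Functor.map_id, CategoryTheory.Functor.map_sum, ModuleCat.hom_id, LinearMap.id_coe,
    id_eq, ModuleCat.hom_sum, LinearMap.coe_sum, Finset.sum_apply, CategoryTheory.Functor.map_comp,
    ModuleCat.hom_comp, LinearMap.coe_comp, Function.comp_apply, spanH] using this

variable (hcd : LocCoh.CdLE R I n) (eK : (K →ₗ[R] E) ≃ₗ[R] LocCoh.H I n R) [Module.Finite R K]

include hcd in
/-- The trace `H^n(K) → E`. -/
lemma exists_trace : ∃ ε : LocCoh.H I n K →ₗ[R] E, ∀ (k : K) (z : LocCoh.H I n R),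
    ε (spanH I n k z) = eK.symm z k := by
  obtain ⟨r, g, hg⟩ := Module.Finite.exists_fin' R K
  let pr : Fin r → (LocCoh.H I n (Fin r → R) →ₗ[R] LocCoh.H I n R) := fun a =>
    ((localCohomology I n).map (ModuleCat.ofHom (LinearMap.proj a : (Fin r → R) →ₗ[R] R))).hom
  let ε₀ : LocCoh.H I n (Fin r → R) →ₗ[R] E :=
    ∑ a, (LinearMap.applyₗ (g (Pi.single a 1)) : (K →ₗ[R] E) →ₗ[R] E) ∘ₗ eK.symm.toLinearMap ∘ₗ pr a
  have hε₀ : ∀ (f : Fin r → R) (z : LocCoh.H I n R), ε₀ (spanH I n f z) = eK.symm z (g f) := by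
    intro f z
    conv_rhs => rw [pi_eq_sum_univ' f, map_sum, map_sum]
    rw [LinearMap.sum_apply]
    refine Finset.sum_congr rfl fun a _ => ?_
    change eK.symm (pr a (spanH I n f z)) (g (Pi.single a 1)) = _
    rw [show pr a (spanH I n f z) = f a • z from by
      change ((localCohomology I n).map _).hom (spanH I n f z) = _
      rw [map_spanH, LinearMap.proj_apply]
      conv_lhs => rw [show f a = f a • (1 : R) from (mul_one _).symm, spanH_smul, spanH_one],
      map_smul, LinearMap.smul_apply, map_smul, map_smul]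
  let G := ((localCohomology I n).map (ModuleCat.ofHom g)).hom
  have hGs : Function.Surjective G := map_surjective_top hcd g hg
  haveI : Module.Finite R (LinearMap.ker g) := Module.Finite.of_fg (IsNoetherian.noetherian _)
  obtain ⟨s, q, hq⟩ := Module.Finite.exists_fin' R (LinearMap.ker g)
  have hker : LinearMap.ker G ≤ LinearMap.ker ε₀ := by
    intro w hw
    let S : ShortComplex (ModuleCat.{u} R) := ShortComplex.mk (ModuleCat.ofHom (LinearMap.ker g).subtype)
      (ModuleCat.ofHom g) (by ext x; exact x.2)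
    have hS : S.ShortExact :=
      { exact := (ShortComplex.moduleCat_exact_iff _).mpr fun x hx => ⟨⟨x, hx⟩, rfl⟩
        mono_f := (ModuleCat.mono_iff_injective _).mpr Subtype.val_injective
        epi_g := (ModuleCat.epi_iff_surjective _).mpr hg }
    obtain ⟨v, rfl⟩ := exists_of_map_g_eq_zero I hS n w hw
    obtain ⟨v', rfl⟩ := map_surjective_top hcd q hq v
    rw [LinearMap.mem_ker, pi_expand I n s v', map_sum, map_sum, map_sum]
    refine Finset.sum_eq_zero fun b _ => ?_
    change ε₀ (((localCohomology I n).map (ModuleCat.ofHom (LinearMap.ker g).subtype)).hom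
      (((localCohomology I n).map (ModuleCat.ofHom q)).hom _)) = 0
    rw [map_spanH, map_spanH, hε₀, Submodule.subtype_apply, LinearMap.mem_ker.mp (q _).2, map_zero]
  refine ⟨(LinearMap.ker G).liftQ ε₀ hker ∘ₗ (G.quotKerEquivOfSurjective hGs).symm.toLinearMap, fun k z => ?_⟩
  obtain ⟨f, rfl⟩ := hg k
  rw [← map_spanH, LinearMap.comp_apply,
    show (G.quotKerEquivOfSurjective hGs).symm.toLinearMap (G (spanH I n f z)) = Submodule.Quotient.mk (spanH I n f z)
      from (LinearEquiv.symm_apply_eq _).mpr rfl]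
  exact hε₀ f z

/-- The trace. -/
noncomputable def trace : LocCoh.H I n K →ₗ[R] E := (exists_trace I n hcd eK).choose

lemma trace_spanH (k : K) (z : LocCoh.H I n R) : trace I n hcd eK (spanH I n k z) = eK.symm z k :=
  (exists_trace I n hcd eK).choose_spec k z

/-- `z ↦ (φ ↦ trace (H(φ) z))`. -/
noncomputable def cdual (M : Type u) [AddCommGroup M] [Module R M] :
    LocCoh.H I n M →ₗ[R] (M →ₗ[R] K) →ₗ[R] E :=
  LinearMap.flip
    { toFun := fun φ => trace I n hcd eK ∘ₗ ((localCohomology I n).map (ModuleCat.ofHom φ)).hom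
      map_add' := fun φ ψ => by
        rw [ModuleCat.ofHom_add, Functor.map_add, ModuleCat.hom_add, LinearMap.comp_add]
      map_smul' := fun r φ => LinearMap.ext fun z => by
        rw [show ModuleCat.ofHom (r • φ) = ModuleCat.ofHom φ ≫ (r • 𝟙 (ModuleCat.of R K)) from by
          ext x; rfl, Functor.map_comp, ModuleCat.hom_comp, LinearMap.comp_apply, LinearMap.comp_apply, map_smul_id,
          map_smul]
        rfl }

lemma cdual_apply (M : Type u) [AddCommGroup M] [Module R M] (z : LocCoh.H I n M) (φ : M →ₗ[R] K) :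
    cdual I n hcd eK M z φ = trace I n hcd eK (((localCohomology I n).map (ModuleCat.ofHom φ)).hom z) := rfl

lemma cdual_natural {M N : Type u} [AddCommGroup M] [Module R M] [AddCommGroup N] [Module R N]
    (f : M →ₗ[R] N) (z : LocCoh.H I n M) :
    cdual I n hcd eK N (((localCohomology I n).map (ModuleCat.ofHom f)).hom z) =
      (cdual I n hcd eK M z) ∘ₗ LinearMap.lcomp R K f := by
  refine LinearMap.ext fun φ => ?_
  rw [cdual_apply, LinearMap.comp_apply, cdual_apply]
  change _ = trace I n hcd eK (((localCohomology I n).map (ModuleCat.ofHom (φ ∘ₗ f))).hom z)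
  rw [ModuleCat.ofHom_comp, Functor.map_comp]
  rfl

lemma cdual_spanH (M : Type u) [AddCommGroup M] [Module R M] (x : M) (z : LocCoh.H I n R) (φ : M →ₗ[R] K) :
    cdual I n hcd eK M (spanH I n x z) φ = eK.symm z (φ x) := by
  rw [cdual_apply, map_spanH, trace_spanH]

lemma bijective_cdual_free (r : ℕ) : Function.Bijective (cdual I n hcd eK (Fin r → R)) := by
  let pr : Fin r → (LocCoh.H I n (Fin r → R) →ₗ[R] LocCoh.H I n R) := fun a =>
    ((localCohomology I n).map (ModuleCat.ofHom (LinearMap.proj a : (Fin r → R) →ₗ[R] R))).hom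
  let incl : Fin r → (K →ₗ[R] ((Fin r → R) →ₗ[R] K)) := fun a =>
    (LinearMap.llcomp R (Fin r → R) R K).flip (LinearMap.proj a) ∘ₗ (LinearMap.ringLmapEquivSelf R R K).symm.toLinearMap
  have hincl : ∀ (a : Fin r) (k : K) (x : Fin r → R), incl a k x = x a • k := fun a k x => rfl
  constructor
  · rw [injective_iff_map_eq_zero]
    intro z hz
    rw [pi_expand I n r z]
    refine Finset.sum_eq_zero fun a _ => ?_
    have h0 : eK.symm (pr a z) = 0 := LinearMap.ext fun k => by
      have h := LinearMap.congr_fun hz (incl a k)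
      rw [pi_expand I n r z, map_sum, LinearMap.sum_apply, Finset.sum_eq_single a] at h
      · rw [cdual_spanH, hincl, Pi.single_eq_same, one_smul] at h
        exact h
      · intro b _ hba
        rw [cdual_spanH, hincl, Pi.single_eq_of_ne (Ne.symm hba), zero_smul, map_zero]
      · exact fun h => absurd (Finset.mem_univ a) h
    rw [show ((localCohomology I n).map _).hom z = pr a z from rfl, eK.symm.map_eq_zero_iff.mp h0, map_zero]
  · intro ξ
    refine ⟨∑ a, spanH I n (Pi.single a (1 : R)) (eK (ξ ∘ₗ incl a)), LinearMap.ext fun φ => ?_⟩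
    have hφ : φ = ∑ a, incl a (φ (Pi.single a 1)) := by
      ext j
      simp [hincl, Pi.single_apply]
    rw [map_sum, LinearMap.sum_apply]
    conv_rhs => rw [hφ, map_sum]
    refine Finset.sum_congr rfl fun a _ => ?_
    rw [cdual_spanH, LinearEquiv.symm_apply_apply]
    rfl

variable (hE : Module.Injective R E)

include hE in
theorem surjective_cdual (M : Type u) [AddCommGroup M] [Module R M] [Module.Finite R M] :
    Function.Surjective (cdual I n hcd eK M) := by
  obtain ⟨r, f, hf⟩ := Module.Finite.exists_fin' R M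
  intro ξ
  obtain ⟨ξ', hξ'⟩ := Module.Injective.out (LinearMap.lcomp R K f)
    (fun φ ψ h => LinearMap.ext fun x => by
      obtain ⟨y, rfl⟩ := hf x; exact LinearMap.congr_fun h y) ξ
  obtain ⟨w, rfl⟩ := (bijective_cdual_free I n hcd eK r).2 ξ'
  exact ⟨((localCohomology I n).map (ModuleCat.ofHom f)).hom w, by
    rw [cdual_natural]; exact LinearMap.ext hξ'⟩

include hE in
theorem bijective_cdual (M : Type u) [AddCommGroup M] [Module R M] [Module.Finite R M] :
    Function.Bijective (cdual I n hcd eK M) := by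
  refine ⟨?_, surjective_cdual I n hcd eK hE M⟩
  obtain ⟨r, f, hf⟩ := Module.Finite.exists_fin' R M
  let L := LinearMap.ker f
  haveI : Module.Finite R L := Module.Finite.of_fg (IsNoetherian.noetherian L)
  rw [injective_iff_map_eq_zero]
  intro z hz
  obtain ⟨w, rfl⟩ := map_surjective_top hcd f hf z
  rw [cdual_natural] at hz
  let res := LinearMap.lcomp R K L.subtype
  have hle : LinearMap.ker res ≤ LinearMap.ker (cdual I n hcd eK _ w) := by
    intro ψ hψ
    have hk : LinearMap.ker f ≤ LinearMap.ker ψ := fun x hx => LinearMap.congr_fun hψ ⟨x, hx⟩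
    let φ : M →ₗ[R] K := (LinearMap.ker f).liftQ ψ hk ∘ₗ (f.quotKerEquivOfSurjective hf).symm.toLinearMap
    have hφ : φ ∘ₗ f = ψ := LinearMap.ext fun x => by
      rw [LinearMap.comp_apply, LinearMap.comp_apply,
        show (f.quotKerEquivOfSurjective hf).symm.toLinearMap (f x) = Submodule.Quotient.mk x from
          (LinearEquiv.symm_apply_eq _).mpr rfl]
      rfl
    rw [LinearMap.mem_ker, ← hφ]
    exact LinearMap.congr_fun hz φ
  obtain ⟨η, hη⟩ := Module.Injective.out ((LinearMap.ker res).liftQ res le_rfl)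
    (LinearMap.ker_eq_bot.mp (Submodule.ker_liftQ_eq_bot _ _ _ le_rfl))
    ((LinearMap.ker res).liftQ (cdual I n hcd eK _ w) hle)
  obtain ⟨k, hk⟩ := surjective_cdual I n hcd eK hE L η
  have hw : ((localCohomology I n).map (ModuleCat.ofHom L.subtype)).hom k = w := by
    refine (bijective_cdual_free I n hcd eK r).1 ?_
    rw [cdual_natural, hk]
    exact LinearMap.ext fun ψ => hη (Submodule.Quotient.mk ψ)
  rw [← hw, ← LinearMap.comp_apply, ← ModuleCat.hom_comp, ← Functor.map_comp,
    show ModuleCat.ofHom L.subtype ≫ ModuleCat.ofHom f = 0 from by ext x; exact x.2, Functor.map_zero]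
  rfl

/-- `H^n_I(M) = Hom(Hom(M, K), E)`. -/
noncomputable def cdualEquiv (M : Type u) [AddCommGroup M] [Module R M] [Module.Finite R M] :
    LocCoh.H I n M ≃ₗ[R] ((M →ₗ[R] K) →ₗ[R] E) :=
  LinearEquiv.ofBijective (cdual I n hcd eK M) (bijective_cdual I n hcd eK hE M)

end trace

section unique

variable [IsLocalRing R] {E : Type u} [AddCommGroup E] [Module R E] {f : ResidueField R →ₗ[R] E}

lemma isFiniteLength_quot_smul (N : Type u) [AddCommGroup N] [Module R N] [Module.Finite R N] :
    IsFiniteLength R (N ⧸ maximalIdeal R • (⊤ : Submodule R N)) := by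
  let Q := N ⧸ maximalIdeal R • (⊤ : Submodule R N)
  letI : Field (R ⧸ maximalIdeal R) := Ideal.Quotient.field _
  haveI : Module.Finite (R ⧸ maximalIdeal R) Q := Module.Finite.of_restrictScalars_finite R _ _
  haveI : IsArtinian (R ⧸ maximalIdeal R) Q := inferInstance
  have hs : Function.Surjective (algebraMap R (R ⧸ maximalIdeal R)) := Ideal.Quotient.mk_surjective
  haveI : IsArtinian R Q := isArtinian_of_surjective_algebraMap hs
  exact isFiniteLength_iff_isNoetherian_isArtinian.mpr ⟨inferInstance, inferInstance⟩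

/-- A surjection `K' → K` between canonical modules. -/
theorem exists_surjective_hom (n : ℕ) (hcd : LocCoh.CdLE R (maximalIdeal R) n) (hf : InjHull.IsInjectiveHull f)
    (K : Type u) [AddCommGroup K] [Module R K] [Module.Finite R K]
    (eK : (K →ₗ[R] E) ≃ₗ[R] LocCoh.H (maximalIdeal R) n R)
    (K' : Type u) [AddCommGroup K'] [Module R K'] [Module.Finite R K']
    (eK' : (K' →ₗ[R] E) ≃ₗ[R] LocCoh.H (maximalIdeal R) n R) :
    ∃ g : K' →ₗ[R] K, Function.Surjective g := by
  let m := maximalIdeal R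
  let N := K' →ₗ[R] K
  let ψ := cdualEquiv m n hcd eK hf.isInjective K'
  -- the functional on the dual of `N` given by the other trace
  let Ω : (N →ₗ[R] E) →ₗ[R] E := trace m n hcd eK' ∘ₗ ψ.symm.toLinearMap
  let Q := N ⧸ m • (⊤ : Submodule R N)
  let π : N →ₗ[R] Q := (m • (⊤ : Submodule R N)).mkQ
  obtain ⟨g', hg'⟩ := (InjHullLib.eval_bijective_of_isFiniteLength hf (isFiniteLength_quot_smul N)).2
    (Ω ∘ₗ LinearMap.lcomp R E π)
  obtain ⟨g, rfl⟩ := Submodule.Quotient.mk_surjective _ g'
  have key : ∀ (h : K →ₗ[R] E), (∀ a ∈ m, a • h = 0) → ∀ k' : K', h (g k') = eK'.symm (eK h) k' := by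
    intro h hh k'
    let ξ : N →ₗ[R] E := ψ (spanH m n k' (eK h))
    have hξ : ∀ φ : N, ξ φ = h (φ k') := fun φ => by
      change cdual m n hcd eK K' (spanH m n k' (eK h)) φ = _
      rw [cdual_spanH, LinearEquiv.symm_apply_apply]
    have hkill : m • (⊤ : Submodule R N) ≤ LinearMap.ker ξ := Submodule.smul_le.mpr fun a ha φ _ => by
      rw [LinearMap.mem_ker, hξ, LinearMap.smul_apply, map_smul, ← LinearMap.smul_apply, hh a ha,
        LinearMap.zero_apply]
    have h1 := LinearMap.congr_fun hg' ((m • (⊤ : Submodule R N)).liftQ ξ hkill)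
    change ξ g = Ω ξ at h1
    rw [hξ] at h1
    rw [h1]
    change trace m n hcd eK' (ψ.symm (ψ (spanH m n k' (eK h)))) = _
    rw [LinearEquiv.symm_apply_apply, trace_spanH]
  refine ⟨g, ?_⟩
  rw [← LinearMap.range_eq_top]
  have hle : (⊤ : Submodule R K) ≤ LinearMap.range g ⊔ m • ⊤ := by
    intro x _
    by_contra hx
    obtain ⟨h, hne⟩ := InjHullLib.exists_ne_zero hf
      (x := Submodule.Quotient.mk (p := LinearMap.range g ⊔ m • ⊤) x) (by simpa using hx)
    let h' : K →ₗ[R] E := h ∘ₗ (LinearMap.range g ⊔ m • ⊤).mkQ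
    have hzero : ∀ y ∈ LinearMap.range g ⊔ m • (⊤ : Submodule R K), h' y = 0 := fun y hy => by
      change h (Submodule.Quotient.mk y) = 0
      rw [(Submodule.Quotient.mk_eq_zero _).mpr hy, map_zero]
    have hh : ∀ a ∈ m, a • h' = 0 := fun a ha => LinearMap.ext fun y => by
      rw [LinearMap.smul_apply, ← map_smul]
      exact hzero _ (Submodule.mem_sup_right (Submodule.smul_mem_smul ha trivial))
    have h0 : eK'.symm (eK h') = 0 := LinearMap.ext fun k' =>
      (key h' hh k').symm.trans (hzero _ (Submodule.mem_sup_left ⟨k', rfl⟩))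
    have h2 : h' = 0 := eK.map_eq_zero_iff.mp (eK'.symm.map_eq_zero_iff.mp h0)
    exact hne (LinearMap.congr_fun h2 x)
  exact top_le_iff.mp (Submodule.le_of_le_smul_of_le_jacobson_bot Module.Finite.fg_top
    (IsLocalRing.maximalIdeal_le_jacobson ⊥) hle)

theorem nonempty_equiv (n : ℕ) (hcd : LocCoh.CdLE R (maximalIdeal R) n) (hf : InjHull.IsInjectiveHull f)
    (K : Type u) [AddCommGroup K] [Module R K] [Module.Finite R K]
    (eK : (K →ₗ[R] E) ≃ₗ[R] LocCoh.H (maximalIdeal R) n R)
    (K' : Type u) [AddCommGroup K'] [Module R K'] [Module.Finite R K']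
    (eK' : (K' →ₗ[R] E) ≃ₗ[R] LocCoh.H (maximalIdeal R) n R) : Nonempty (K ≃ₗ[R] K') := by
  obtain ⟨g, hg⟩ := exists_surjective_hom n hcd hf K eK K' eK'
  obtain ⟨g', hg'⟩ := exists_surjective_hom n hcd hf K' eK' K eK
  have h := IsNoetherian.injective_of_surjective_endomorphism (g' ∘ₗ g) (hg'.comp hg)
  exact ⟨(LinearEquiv.ofBijective g ⟨Function.Injective.of_comp h, hg⟩).symm⟩

end unique

section ass

variable [IsLocalRing R] {n : ℕ} {E : Type u} [AddCommGroup E] [Module R E] {f : ResidueField R →ₗ[R] E}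
  {K : Type u} [AddCommGroup K] [Module R K] [Module.Finite R K]

lemma eq_of_le_of_dim {p q : Ideal R} [hp : p.IsPrime] (h : p ≤ q) (e : ℕ) (hpe : ringKrullDim (R ⧸ p) = e)
    (hqe : ringKrullDim (R ⧸ q) = e) : p = q := by
  by_contra hne
  obtain ⟨x, hxq, hxp⟩ := SetLike.not_le_iff_exists.mp fun hle => hne (le_antisymm h hle)
  have hx : Ideal.Quotient.mk p x ≠ 0 := by rwa [Ne, Ideal.Quotient.eq_zero_iff_mem]
  have h1 := ringKrullDim_quotient_succ_le_of_nonZeroDivisor (mem_nonZeroDivisors_of_ne_zero hx)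
  let g : (R ⧸ p) ⧸ Ideal.span {Ideal.Quotient.mk p x} →+* R ⧸ q :=
    Ideal.Quotient.lift _ (Ideal.Quotient.factor h) fun y hy => by
      obtain ⟨c, rfl⟩ := Ideal.mem_span_singleton'.mp hy
      rw [map_mul, Ideal.Quotient.factor_mk, Ideal.Quotient.eq_zero_iff_mem.mpr hxq, mul_zero]
  have hg : Function.Surjective g := fun z => by
    obtain ⟨y, rfl⟩ := Ideal.Quotient.mk_surjective z
    exact ⟨Ideal.Quotient.mk _ (Ideal.Quotient.mk p y), rfl⟩
  have h2 : ringKrullDim (R ⧸ q) + 1 ≤ ringKrullDim (R ⧸ p) :=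
    (add_le_add (ringKrullDim_le_of_surjective g hg) le_rfl).trans h1
  rw [hpe, hqe] at h2
  have h3 : e + 1 ≤ e := by exact_mod_cast h2
  omega

variable (hcd : LocCoh.CdLE R (maximalIdeal R) n) (hf : InjHull.IsInjectiveHull f)
  (eK : (K →ₗ[R] E) ≃ₗ[R] LocCoh.H (maximalIdeal R) n R)

include hcd hf eK in
theorem le_dim_of_mem_associatedPrimes {p : Ideal R} (hp : p ∈ associatedPrimes R K) :
    (n : WithBot ℕ∞) ≤ ringKrullDim (R ⧸ p) := by
  haveI := hp.isPrime
  obtain ⟨-, j, hj⟩ := (isAssociatedPrime_iff_exists_injective_linearMap _ _).1 hp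
  by_contra hlt
  rw [not_le] at hlt
  haveI : Subsingleton (LocCoh.H (maximalIdeal R) n (R ⧸ p)) :=
    subsingleton_of_supportDim_lt _ _ n (by rwa [Module.supportDim_quotient_eq_ringKrullDim])
  have hk : j 1 ≠ 0 := fun h0 => by
    have := hj (h0.trans (map_zero j).symm)
    exact one_ne_zero this
  obtain ⟨h, hh⟩ := InjHullLib.exists_ne_zero hf hk
  refine hh ?_
  rw [← eK.symm_apply_apply h, ← trace_spanH (maximalIdeal R) n hcd eK, ← map_spanH _ _ j,
    Subsingleton.elim (spanH (maximalIdeal R) n (1 : R ⧸ p) (eK h)) 0, map_zero, map_zero]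

include hcd hf eK in
theorem mem_associatedPrimes_of_dim (hn : ringKrullDim R = n) (p : Ideal R) [p.IsPrime]
    (hp : ringKrullDim (R ⧸ p) = n) : p ∈ associatedPrimes R K := by
  haveI : Nontrivial (R ⧸ p) := Ideal.Quotient.nontrivial_iff.mpr Ideal.IsPrime.ne_top'
  haveI := nontrivial_H (R ⧸ p) n (by rwa [Module.supportDim_quotient_eq_ringKrullDim])
  obtain ⟨φ, hφ⟩ : ∃ φ : (R ⧸ p) →ₗ[R] K, φ ≠ 0 := by
    by_contra hall
    push Not at hall
    have hsub : Subsingleton (LocCoh.H (maximalIdeal R) n (R ⧸ p)) := by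
      haveI : Subsingleton (((R ⧸ p) →ₗ[R] K) →ₗ[R] E) := subsingleton_of_forall_eq 0 fun ξ => LinearMap.ext fun φ => by
        rw [hall φ, map_zero, map_zero]
      exact (cdualEquiv _ n hcd eK hf.isInjective (R ⧸ p)).toEquiv.subsingleton
    exact not_subsingleton _ hsub
  have hk : φ 1 ≠ 0 := fun h0 => hφ (LinearMap.ext fun x => by
    obtain ⟨r, rfl⟩ := Ideal.Quotient.mk_surjective x
    rw [show (Ideal.Quotient.mk p r : R ⧸ p) = r • 1 from by
      rw [Algebra.smul_def, Ideal.Quotient.algebraMap_eq, mul_one], map_smul, h0, smul_zero, LinearMap.zero_apply])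
  haveI : Nontrivial (Submodule.span R {φ 1}) :=
    ⟨⟨⟨φ 1, Submodule.mem_span_singleton_self _⟩, 0, fun h => hk (congrArg Subtype.val h)⟩⟩
  obtain ⟨q, hq⟩ := associatedPrimes.nonempty R (Submodule.span R {φ 1})
  have hqK : q ∈ associatedPrimes R K :=
    associatedPrimes.subset_of_injective (Submodule.subtype_injective _) hq
  have hpq : p ≤ q := fun a ha => hq.annihilator_le (Submodule.mem_annihilator.mpr fun y _ => Subtype.ext (by
    obtain ⟨c, hc⟩ := Submodule.mem_span_singleton.mp y.2
    change a • (y : K) = 0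
    rw [← hc, smul_comm, ← map_smul, Algebra.smul_def, mul_one, Ideal.Quotient.algebraMap_eq,
      Ideal.Quotient.eq_zero_iff_mem.mpr ha, map_zero, smul_zero]))
  have hqn : ringKrullDim (R ⧸ q) = n := le_antisymm
    (hn ▸ ringKrullDim_le_of_surjective _ Ideal.Quotient.mk_surjective) (le_dim_of_mem_associatedPrimes hcd hf eK hqK)
  exact (eq_of_le_of_dim hpq n hp hqn) ▸ hqK

end ass

end Groth.Agent.CanonLib
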