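import Mathlib
import Groth.Agent.CanonLib.Basic
import Groth.Agent.GorLib.DepthVanish
import Groth.Agent.RegLocal.GlobalDim

/-! Canonical modules over Cohen–Macaulay local rings: duality, injective dimension, endomorphisms. -/

set_option autoImplicit false
universe u

namespace Groth.Agent.CanonLib

open CategoryTheory Limits IsLocalRing LocCohLib

variable {R : Type u} [CommRing R] [LocCoh.IsCohenMacaulayLocalRing R] {d : ℕ} {E : Type u} [AddCommGroup E]
  [Module R E] {g₀ : ResidueField R →ₗ[R] E} {K : Type u} [AddCommGroup K] [Module R K] [Module.Finite R K]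

lemma depth_self_eq (hd : ringKrullDim R = d) : LocCoh.depth R R = d := by
  have h := (inferInstance : LocCoh.IsCohenMacaulayLocalRing R).supportDim_eq_depth
  rw [Module.supportDim_self_eq_ringKrullDim, hd] at h
  exact (WithBot.coe_eq_coe.mp h).symm

lemma subsingleton_H_free (hd : ringKrullDim R = d) (n i : ℕ) (hi : i ≠ d) :
    Subsingleton ((localCohomology (maximalIdeal R) i).obj (ModuleCat.of R (Fin n → R)) : Type u) := by
  refine subsingleton_H_pi (maximalIdeal R) i R ?_ n
  rcases Nat.lt_or_ge i d with h | h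
  · exact (GorLib.natCast_le_depth_iff_subsingleton_H R d).mp (depth_self_eq hd).ge i h
  · exact cdLE_of_ringKrullDim_local _ d hd.le R i (by omega)

/-- Local duality with a canonical module. -/
theorem local_duality (hd : ringKrullDim R = d) (hE : Module.Injective R E)
    (eK : (K →ₗ[R] E) ≃ₗ[R] LocCoh.H (maximalIdeal R) d R) :
    ∀ (p : ℕ) (j : ℕ), j + p = d → ∀ (M : Type u) [AddCommGroup M] [Module R M] [Module.Finite R M],
      Nonempty (((localCohomology (maximalIdeal R) j).obj (ModuleCat.of R M) : Type u) ≃ₗ[R]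
        (Abelian.Ext (ModuleCat.of R M) (ModuleCat.of R K) p →ₗ[R] E)) := by
  have hcd : LocCoh.CdLE R (maximalIdeal R) d := cdLE_of_ringKrullDim_local _ d hd.le
  set m := maximalIdeal R
  set AA := ModuleCat.of R K
  intro p
  induction p with
  | zero =>
    intro j hj M _ _ _
    obtain rfl : j = d := by omega
    let e₀ : Abelian.Ext (ModuleCat.of R M) AA 0 ≃ₗ[R] (M →ₗ[R] K) :=
      Abelian.Ext.linearEquiv₀.trans ModuleCat.homLinearEquiv
    exact ⟨LinearEquiv.ofBijective _ (bijective_cdual m j hcd eK hE M) ≪≫ₗ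
      e₀.symm.arrowCongr (LinearEquiv.refl R _)⟩
  | succ p ih =>
    intro j hj M _ _ _
    obtain ⟨n, f, hf⟩ := Module.Finite.exists_fin' R M
    let L := LinearMap.ker f
    haveI : Module.Finite R L := Module.Finite.of_fg (IsNoetherian.noetherian L)
    let S : ShortComplex (ModuleCat.{u} R) := ShortComplex.mk (ModuleCat.ofHom L.subtype) (ModuleCat.ofHom f)
      (by ext x; exact x.2)
    have hS : S.ShortExact :=
      { exact := (ShortComplex.moduleCat_exact_iff _).mpr fun x hx => ⟨⟨x, hx⟩, rfl⟩
        mono_f := (ModuleCat.mono_iff_injective _).mpr Subtype.val_injective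
        epi_g := (ModuleCat.epi_iff_surjective _).mpr hf }
    haveI hFp : Projective S.X₂ := (IsProjective.iff_projective (R := R) (Fin n → R)).mp inferInstance
    have hF : ∀ i : ℕ, i ≠ d → Subsingleton ((localCohomology m i).obj S.X₂ : Type u) := fun i hi =>
      subsingleton_H_free hd n i hi
    haveI := hF j (by omega)
    have hinj : Function.Injective (δ m hS j) := (injective_iff_map_eq_zero _).mpr fun z hz => by
      obtain ⟨w, rfl⟩ := exists_of_δ_eq_zero m hS j z hz
      rw [Subsingleton.elim w 0, map_zero]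
    let D : Abelian.Ext S.X₁ AA p →ₗ[R] Abelian.Ext S.X₃ AA (p + 1) :=
      hS.extClass.precompOfLinear R AA (show 1 + p = p + 1 by omega)
    have hDs : Function.Surjective D := fun z =>
      Abelian.Ext.contravariant_sequence_exact₃ hS AA z (Abelian.Ext.eq_zero_of_projective _) (by omega)
    rcases p with _ | q
    · -- `p + 1 = 1`
      obtain rfl : j + 1 = d := by omega
      let c : (L →ₗ[R] K) →ₗ[R] Abelian.Ext S.X₃ AA 1 :=
        D ∘ₗ (Abelian.Ext.linearEquiv₀.trans ModuleCat.homLinearEquiv :
          Abelian.Ext S.X₁ AA 0 ≃ₗ[R] (L →ₗ[R] K)).symm.toLinearMap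
      have hcs : Function.Surjective c := hDs.comp (LinearEquiv.surjective _)
      have hc : ∀ φ, c φ = 0 ↔ ∃ ψ : (Fin n → R) →ₗ[R] K, ψ ∘ₗ L.subtype = φ := by
        intro φ
        constructor
        · intro h
          obtain ⟨y, hy⟩ := Abelian.Ext.contravariant_sequence_exact₁ hS AA _ (show 1 + 0 = 1 from rfl) h
          obtain ⟨g, rfl⟩ := (Abelian.Ext.linearEquiv₀ (R := R)).symm.surjective y
          refine ⟨g.hom, ?_⟩
          have hy' : Abelian.Ext.mk₀ (S.f ≫ g) = Abelian.Ext.mk₀ (ModuleCat.ofHom φ) := by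
            rw [← Abelian.Ext.mk₀_comp_mk₀]; exact hy
          exact congrArg ModuleCat.Hom.hom ((Abelian.Ext.mk₀_bijective _ _).1 hy')
        · rintro ⟨ψ, rfl⟩
          change hS.extClass.comp (Abelian.Ext.mk₀ (S.f ≫ ModuleCat.ofHom ψ)) (show 1 + 0 = 0 + 1 from rfl) = 0
          rw [← Abelian.Ext.mk₀_comp_mk₀]
          exact hS.extClass_comp_assoc _ (h := rfl)
      let e₁ : ((localCohomology m j).obj S.X₃ : Type u) →ₗ[R] (L →ₗ[R] K) →ₗ[R] E :=
        cdual m (j + 1) hcd eK L ∘ₗ δ m hS j
      let e₂ := LinearMap.lcomp R E c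
      have h1 : Function.Injective e₁ := (bijective_cdual m (j + 1) hcd eK hE L).1.comp hinj
      have h2 : Function.Injective e₂ := fun u v h => LinearMap.ext fun x => by
        obtain ⟨y, rfl⟩ := hcs x
        exact LinearMap.congr_fun h y
      have hr : LinearMap.range e₁ = LinearMap.range e₂ := by
        refine le_antisymm ?_ ?_
        · rintro _ ⟨z, rfl⟩
          have hle : LinearMap.ker c ≤ LinearMap.ker (e₁ z) := fun φ hφ => by
            obtain ⟨ψ, rfl⟩ := (hc φ).mp hφ
            have h0 := congrArg (fun t => cdual m (j + 1) hcd eK (Fin n → R) t ψ) (map_f_δ m hS j z)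
            simp only [map_zero, LinearMap.zero_apply] at h0
            rw [LinearMap.mem_ker]
            refine Eq.trans ?_ h0
            exact (LinearMap.congr_fun (cdual_natural m (j + 1) hcd eK L.subtype (δ m hS j z)) ψ).symm
          refine ⟨(LinearMap.ker c).liftQ (e₁ z) hle ∘ₗ (c.quotKerEquivOfSurjective hcs).symm.toLinearMap,
            LinearMap.ext fun φ => ?_⟩
          change ((LinearMap.ker c).liftQ (e₁ z) hle ∘ₗ _) (c φ) = _
          rw [LinearMap.comp_apply,
            show (c.quotKerEquivOfSurjective hcs).symm.toLinearMap (c φ) = Submodule.Quotient.mk φ from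
              (LinearEquiv.symm_apply_eq _).mpr rfl]
          rfl
        · rintro _ ⟨η, rfl⟩
          obtain ⟨k, hk⟩ := (bijective_cdual m (j + 1) hcd eK hE L).2 (e₂ η)
          have hk0 : ((localCohomology m (j + 1)).map S.f).hom k = 0 := by
            refine (bijective_cdual_free m (j + 1) hcd eK n).1 ?_
            change cdual m (j + 1) hcd eK (Fin n → R) (((localCohomology m (j + 1)).map (ModuleCat.ofHom L.subtype)).hom k) = _
            rw [cdual_natural, hk, map_zero]
            refine LinearMap.ext fun ψ => ?_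
            change η (c (ψ ∘ₗ L.subtype)) = 0
            rw [(hc _).mpr ⟨ψ, rfl⟩, map_zero]
          obtain ⟨z, rfl⟩ := exists_of_map_f_eq_zero m hS j k hk0
          exact ⟨z, hk⟩
      exact ⟨LinearEquiv.ofInjective e₁ h1 ≪≫ₗ LinearEquiv.ofEq _ _ hr ≪≫ₗ (LinearEquiv.ofInjective e₂ h2).symm⟩
    · haveI := hF (j + 1) (by omega)
      have hsurj : Function.Surjective (δ m hS j) := fun k =>
        exists_of_map_f_eq_zero m hS j k (Subsingleton.elim _ _)
      have hDi : Function.Injective D := (injective_iff_map_eq_zero _).mpr fun z hz => by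
        obtain ⟨y, hy⟩ := Abelian.Ext.contravariant_sequence_exact₁ hS AA z (show 1 + (q + 1) = q + 1 + 1 by omega) hz
        rw [← hy, Abelian.Ext.eq_zero_of_projective y, Abelian.Ext.comp_zero]
      obtain ⟨e⟩ := ih (j + 1) (by omega) L
      exact ⟨LinearEquiv.ofBijective _ ⟨hinj, hsurj⟩ ≪≫ₗ e ≪≫ₗ
        (LinearEquiv.ofBijective D ⟨hDi, hDs⟩).arrowCongr (LinearEquiv.refl R _)⟩

variable (hd : ringKrullDim R = d) (hf : InjHull.IsInjectiveHull g₀)
  (eK : (K →ₗ[R] E) ≃ₗ[R] LocCoh.H (maximalIdeal R) d R)

include hd hf eK in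
lemma subsingleton_ext_iff (M : Type u) [AddCommGroup M] [Module R M] [Module.Finite R M] (j p : ℕ) (hjp : j + p = d) :
    Subsingleton (Abelian.Ext (ModuleCat.of R M) (ModuleCat.of R K) p) ↔
      Subsingleton ((localCohomology (maximalIdeal R) j).obj (ModuleCat.of R M) : Type u) := by
  obtain ⟨e⟩ := local_duality hd hf.isInjective eK p j hjp M
  constructor
  · intro h
    haveI : Subsingleton (Abelian.Ext (ModuleCat.of R M) (ModuleCat.of R K) p →ₗ[R] E) :=
      subsingleton_of_forall_eq 0 fun ξ => LinearMap.ext fun x => by rw [Subsingleton.elim x 0, map_zero, map_zero]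
    exact e.toEquiv.subsingleton
  · intro h
    refine subsingleton_of_forall_eq 0 fun x => by_contra fun hx => ?_
    obtain ⟨ξ, hξ⟩ := InjHullLib.exists_ne_zero hf hx
    haveI := e.symm.toEquiv.subsingleton
    exact hξ (by rw [Subsingleton.elim ξ 0]; rfl)

include hd hf eK in
theorem subsingleton_ext_succ_dim (M : Type u) [AddCommGroup M] [Module R M] [Module.Finite R M] :
    Subsingleton (Abelian.Ext (ModuleCat.of R M) (ModuleCat.of R K) (d + 1)) := by
  obtain ⟨r, f, hf'⟩ := Module.Finite.exists_fin' R M
  let L := LinearMap.ker f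
  haveI : Module.Finite R L := Module.Finite.of_fg (IsNoetherian.noetherian L)
  let S : ShortComplex (ModuleCat.{u} R) := ShortComplex.mk (ModuleCat.ofHom L.subtype) (ModuleCat.ofHom f)
    (by ext x; exact x.2)
  have hS : S.ShortExact :=
    { exact := (ShortComplex.moduleCat_exact_iff _).mpr fun x hx => ⟨⟨x, hx⟩, rfl⟩
      mono_f := (ModuleCat.mono_iff_injective _).mpr Subtype.val_injective
      epi_g := (ModuleCat.epi_iff_surjective _).mpr hf' }
  haveI : Projective S.X₂ := (IsProjective.iff_projective (R := R) (Fin r → R)).mp inferInstance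
  refine subsingleton_of_forall_eq 0 fun z => ?_
  obtain ⟨w, rfl⟩ := Abelian.Ext.contravariant_sequence_exact₃ hS (ModuleCat.of R K) z
    (Abelian.Ext.eq_zero_of_projective _) (show 1 + d = d + 1 by omega)
  rcases Nat.eq_zero_or_pos d with rfl | hd0
  · -- `R` is Artinian and `K` is injective
    haveI : IsArtinianRing R := isArtinianRing_iff_isNoetherianRing_krullDimLE_zero.mpr
      ⟨inferInstance, Ring.krullDimLE_iff.mpr hd.le⟩
    have hK : IsFiniteLength R K := isFiniteLength_iff_isNoetherian_isArtinian.mpr ⟨inferInstance, inferInstance⟩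
    let e : K ≃ₗ[R] E := LinearEquiv.ofBijective _ (InjHullLib.eval_bijective_of_isFiniteLength hf hK) ≪≫ₗ
      (eK ≪≫ₗ LinearEquiv.ofBijective (h0 (maximalIdeal R) (ModuleCat.of R R)) ⟨h0_injective, fun y => by
        have hy : y ∈ DRing.torsionSub (maximalIdeal R) R := by
          obtain ⟨N, hN⟩ := IsArtinianRing.isNilpotent_jacobson_bot (R := R)
          rw [IsLocalRing.jacobson_eq_maximalIdeal ⊥ bot_ne_top] at hN
          exact ⟨N, fun a ha => by rw [show a = 0 by rw [hN] at ha; exact ha, zero_smul]⟩
        exact (range_h0 (I := maximalIdeal R) (M := ModuleCat.of R R)).ge hy⟩).arrowCongr (LinearEquiv.refl R E) ≪≫ₗ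
      LinearMap.ringLmapEquivSelf R R E
    haveI := hf.isInjective
    haveI : Injective (ModuleCat.of R E) := Module.injective_object_of_injective_module R E
    haveI : Injective (ModuleCat.of R K) := Injective.of_iso e.toModuleIso.symm inferInstance
    obtain ⟨g, rfl⟩ := (Abelian.Ext.linearEquiv₀ (R := R)).symm.surjective w
    change hS.extClass.comp (Abelian.Ext.mk₀ g) _ = 0
    haveI := hS.mono_f
    rw [show g = S.f ≫ Injective.factorThru g S.f from (Injective.comp_factorThru g S.f).symm,
      ← Abelian.Ext.mk₀_comp_mk₀]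
    exact hS.extClass_comp_assoc _ (h := rfl)
  · haveI : Subsingleton (Abelian.Ext S.X₁ (ModuleCat.of R K) d) := by
      refine (subsingleton_ext_iff hd hf eK L 0 d (by omega)).mpr ?_
      haveI := subsingleton_H_free hd r 0 (by omega)
      refine subsingleton_of_forall_eq 0 fun z => h0_injective ?_
      rw [map_zero]
      have h1 := h0_map (I := maximalIdeal R) (ModuleCat.ofHom L.subtype) z
      rw [Subsingleton.elim (α := LocCoh.H (maximalIdeal R) 0 (Fin r → R))
        (((localCohomology (maximalIdeal R) 0).map (ModuleCat.ofHom L.subtype)).hom z) 0, map_zero] at h1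
      exact (Subtype.val_injective h1).symm
    rw [Subsingleton.elim w 0, Abelian.Ext.comp_zero]

include hd hf eK in
theorem hasInjectiveDimensionLT : HasInjectiveDimensionLT (ModuleCat.of R K) (d + 1) :=
  RegLocal.hasInjectiveDimensionLT_of_cyclic d _ fun _ => subsingleton_ext_succ_dim hd hf eK _

lemma supportDim_residueField : Module.supportDim R (R ⧸ maximalIdeal R) = 0 := by
  rw [Module.supportDim_quotient_eq_ringKrullDim]
  letI := Ideal.Quotient.field (maximalIdeal R)
  exact ringKrullDim_eq_zero_of_field _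

include hd hf eK in
theorem nontrivial_ext_residueField :
    Nontrivial (Abelian.Ext (ModuleCat.of R (R ⧸ maximalIdeal R)) (ModuleCat.of R K) d) := by
  rw [← not_subsingleton_iff_nontrivial, subsingleton_ext_iff hd hf eK _ 0 d (by omega)]
  haveI : Nontrivial (R ⧸ maximalIdeal R) := Ideal.Quotient.nontrivial_iff.mpr (maximalIdeal.isMaximal R).ne_top
  haveI := nontrivial_H (R := R) (R ⧸ maximalIdeal R) 0 (by rw [supportDim_residueField]; rfl)
  exact not_subsingleton _

include hd hf eK in
theorem not_hasInjectiveDimensionLT : ¬ HasInjectiveDimensionLT (ModuleCat.of R K) d := fun h => by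
  haveI := nontrivial_ext_residueField hd hf eK
  haveI := h
  exact not_subsingleton (Abelian.Ext (ModuleCat.of R (R ⧸ maximalIdeal R)) (ModuleCat.of R K) d)
    (HasInjectiveDimensionLT.subsingleton (ModuleCat.of R K) d d le_rfl _)

include hd eK in
theorem nontrivial_canonical : Nontrivial K := by
  by_contra hK
  rw [not_nontrivial_iff_subsingleton] at hK
  haveI : Subsingleton (LocCoh.H (maximalIdeal R) d R) := eK.symm.toEquiv.subsingleton
  haveI := nontrivial_H (R := R) R d (by rw [Module.supportDim_self_eq_ringKrullDim]; exact hd)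
  exact not_subsingleton (LocCoh.H (maximalIdeal R) d R) ‹_›

include hd hf eK in
theorem subsingleton_ext_residueField_lt (i : ℕ) (hi : i < d) :
    Subsingleton (Abelian.Ext (ModuleCat.of R (R ⧸ maximalIdeal R)) (ModuleCat.of R K) i) :=
  (subsingleton_ext_iff hd hf eK _ (d - i) i (by omega)).mpr
    (subsingleton_of_supportDim_lt _ _ _ (by rw [supportDim_residueField]; exact_mod_cast (by omega : 0 < d - i)))

include hd hf eK in
theorem depth_eq : LocCoh.depth R K = d := by
  haveI := nontrivial_canonical hd eK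
  have hne := CAlgBasics.maximalIdeal_smul_top_ne_top (R := R) (M := K)
  obtain ⟨rs, hrs⟩ := Depth.exists_isMaxSeq (M := K) hne
  rw [LocCoh.depth, Depth.idealDepth_eq_length hne hrs, Nat.cast_inj]
  obtain ⟨-, hn⟩ := nontrivial_of_isMaxSeq (maximalIdeal R) K hrs
  rcases lt_trichotomy rs.length d with h | h | h
  · exact absurd (subsingleton_ext_residueField_lt hd hf eK _ h) (not_subsingleton_iff_nontrivial.mpr hn)
  · exact h
  · haveI := hasInjectiveDimensionLT hd hf eK
    exact absurd (HasInjectiveDimensionLT.subsingleton (ModuleCat.of R K) (d + 1) rs.length h _)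
      (not_subsingleton_iff_nontrivial.mpr hn)

end Groth.Agent.CanonLib
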