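import Mathlib
import Groth.Agent.CanonLib.CMDuality
import Groth.Agent.LocCohLib.TopExt

/-! Cohen–Macaulay modules, regular sequences and endomorphisms of the canonical module. -/

set_option autoImplicit false
universe u

namespace Groth.Agent.CanonLib

open CategoryTheory Limits IsLocalRing LocCohLib RingTheory.Sequence
open scoped Pointwise

variable {R : Type u} [CommRing R] [IsNoetherianRing R] [IsLocalRing R]

/-- A finite Cohen–Macaulay module of dimension `m`. -/
structure CMType (m : ℕ) (C : Type u) [AddCommGroup C] [Module R C] : Prop where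
  dim : Module.supportDim R C = m
  vanish : ∀ i < m, Subsingleton (LocCoh.H (maximalIdeal R) i C)

lemma exists_pow_killedBy {I : Ideal R} (M : Type u) [AddCommGroup M] [Module R M] [Module.Finite R M]
    (h : ∀ x : M, x ∈ DRing.torsionSub I M) : ∃ N : ℕ, ∀ b ∈ I ^ N, ∀ x : M, b • x = 0 := by
  obtain ⟨s, hs⟩ := (Module.Finite.fg_top : (⊤ : Submodule R M).FG)
  choose N hN using h
  refine ⟨s.sup N, fun b hb x => ?_⟩
  have hle : Submodule.span R (s : Set M) ≤ LinearMap.ker (LinearMap.lsmul R M b) :=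
    Submodule.span_le.mpr fun y hy => hN y b (Ideal.pow_le_pow_right (Finset.le_sup hy) hb)
  exact hle (hs.ge trivial)

variable {C : Type u} [AddCommGroup C] [Module R C] [Module.Finite R C]

omit [Module.Finite R C] in
lemma CMType.nontrivial {m : ℕ} (hC : CMType (R := R) m C) : Nontrivial C :=
  (Module.supportDim_ne_bot_iff_nontrivial R C).mp (by rw [hC.dim]; simp)

lemma CMType.exists_regular {m : ℕ} (hC : CMType (R := R) (m + 1) C) :
    ∃ a ∈ maximalIdeal R, IsSMulRegular C a := by
  haveI := hC.nontrivial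
  have h : ((1 : ℕ) : ℕ∞) ≤ LocCoh.depth R C := (GorLib.natCast_le_depth_iff_subsingleton_H C 1).mpr
    fun j hj => hC.vanish j (by omega)
  obtain ⟨rs, hlen, hw, hm⟩ := (CAlgBasics.natCast_le_depth_iff (R := R) (M := C) 1).mp h
  obtain ⟨a, rfl⟩ := List.length_eq_one_iff.mp hlen
  exact ⟨a, hm a List.mem_cons_self, (isWeaklyRegular_singleton_iff _ _).mp hw⟩

lemma CMType.quot {m : ℕ} (hC : CMType (R := R) (m + 1) C) (a : R) (ha : a ∈ maximalIdeal R)
    (hreg : IsSMulRegular C a) : CMType (R := R) m (QuotSMulTop a C) := by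
  refine ⟨?_, fun i hi => ?_⟩
  · have h := Module.supportDim_quotSMulTop_succ_eq_supportDim_mem_jacobson hreg
      (IsLocalRing.maximalIdeal_le_jacobson _ ha)
    rw [hC.dim] at h
    revert h
    generalize Module.supportDim R (QuotSMulTop a C) = x
    induction x with
    | bot =>
      intro h
      rw [WithBot.bot_add] at h
      exact absurd h.symm (WithBot.coe_ne_bot)
    | coe x =>
      intro h
      induction x using ENat.recTopCoe with
      | top =>
        exfalso
        have h' : ((⊤ : ℕ∞) + 1 : ℕ∞) = ((m + 1 : ℕ) : ℕ∞) := WithBot.coe_eq_coe.mp h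
        rw [top_add] at h'
        exact ENat.coe_ne_top _ h'.symm
      | coe x =>
        have : x + 1 = m + 1 := by exact_mod_cast h
        rw [Nat.succ_injective this]
        rfl
  · have hS := IsSMulRegular.smulShortComplex_shortExact (M := ModuleCat.of R C) hreg
    haveI : Subsingleton ((localCohomology (maximalIdeal R) i).obj ((ModuleCat.of R C).smulShortComplex a).X₂ : Type u) :=
      hC.vanish i (by omega)
    haveI : Subsingleton ((localCohomology (maximalIdeal R) (i + 1)).obj ((ModuleCat.of R C).smulShortComplex a).X₁ : Type u) :=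
      hC.vanish (i + 1) (by omega)
    refine subsingleton_of_forall_eq 0 fun z => ?_
    obtain ⟨w, hw⟩ := exists_of_δ_eq_zero (maximalIdeal R) hS i z (Subsingleton.elim _ _)
    rw [← hw, Subsingleton.elim w 0]
    exact map_zero _

/-- The connecting map onto the kernel of `a` in the top degree. -/
lemma CMType.exists_δ {m : ℕ} (hC : CMType (R := R) (m + 1) C) (a : R) (hreg : IsSMulRegular C a) :
    ∃ ψ : LocCoh.H (maximalIdeal R) m (QuotSMulTop a C) →ₗ[R] LocCoh.H (maximalIdeal R) (m + 1) C,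
      Function.Injective ψ ∧ ∀ z, a • z = 0 ↔ ∃ w, ψ w = z := by
  have hS := IsSMulRegular.smulShortComplex_shortExact (M := ModuleCat.of R C) hreg
  have hf : ∀ z : LocCoh.H (maximalIdeal R) (m + 1) C,
      ((localCohomology (maximalIdeal R) (m + 1)).map ((ModuleCat.of R C).smulShortComplex a).f).hom z = a • z := fun z => by
    rw [ModuleCat.smulShortComplex_f_eq_smul_id]
    exact map_smul_id (maximalIdeal R) (m + 1) (ModuleCat.of R C) a z
  refine ⟨δ (maximalIdeal R) hS m, (injective_iff_map_eq_zero _).mpr fun z hz => ?_, fun z => ?_⟩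
  · haveI : Subsingleton ((localCohomology (maximalIdeal R) m).obj ((ModuleCat.of R C).smulShortComplex a).X₂ : Type u) :=
      hC.vanish m (by omega)
    obtain ⟨w, hw⟩ := exists_of_δ_eq_zero (maximalIdeal R) hS m z hz
    rw [← hw, Subsingleton.elim w 0]
    exact map_zero _
  · rw [← hf z]
    exact ⟨exists_of_map_f_eq_zero (maximalIdeal R) hS m z, fun ⟨w, hw⟩ => hw ▸ map_f_δ (maximalIdeal R) hS m w⟩

/-- Top local cohomology of a Cohen–Macaulay module has no more annihilators than the module. -/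
theorem smul_eq_zero_of_smul_H (r : R) : ∀ (m : ℕ) (C : Type u) [AddCommGroup C] [Module R C] [Module.Finite R C],
    CMType (R := R) m C → (∀ z : LocCoh.H (maximalIdeal R) m C, r • z = 0) → ∀ x : C, r • x = 0 := by
  suffices key : ∀ (t : ℕ), 0 < t → ∀ (m : ℕ) (C : Type u) [AddCommGroup C] [Module R C] [Module.Finite R C],
      CMType (R := R) m C → (∀ z : LocCoh.H (maximalIdeal R) m C, r • z = 0) →
        ∀ x : C, r • x ∈ maximalIdeal R ^ t • (⊤ : Submodule R C) by
    intro m C _ _ _ hC hr x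
    have hmem : r • x ∈ ⨅ t : ℕ, maximalIdeal R ^ t • (⊤ : Submodule R C) := by
      rw [Submodule.mem_iInf]
      intro t
      exact Submodule.smul_mono_left (Ideal.pow_le_pow_right (Nat.le_succ t)) (key (t + 1) t.succ_pos m C hC hr x)
    rwa [Ideal.iInf_pow_smul_eq_bot_of_le_jacobson _ (IsLocalRing.maximalIdeal_le_jacobson _), Submodule.mem_bot] at hmem
  intro t ht m
  induction m with
  | zero =>
    intro C _ _ _ hC hr x
    have htor := isPowerTorsion_of_supportDim_le_zero C hC.dim.le
    obtain ⟨z, hz⟩ := (range_h0 (I := maximalIdeal R) (M := ModuleCat.of R C)).ge (htor x)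
    rw [← hz, ← map_smul, hr z, map_zero]
    exact zero_mem _
  | succ m ih =>
    intro C _ _ _ hC hr x
    obtain ⟨a, ha, hreg⟩ := hC.exists_regular
    have hb : a ^ t ∈ maximalIdeal R ^ t := Ideal.pow_mem_pow ha t
    have hbm : a ^ t ∈ maximalIdeal R := Ideal.pow_le_self ht.ne' hb
    obtain ⟨ψ, hψ, -⟩ := hC.exists_δ (a ^ t) (hreg.pow t)
    have h := ih (QuotSMulTop (a ^ t) C) (hC.quot (a ^ t) hbm (hreg.pow t))
      (fun z => hψ (by rw [map_smul, hr, map_zero])) (Submodule.Quotient.mk x)
    rw [← Submodule.Quotient.mk_smul] at h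
    have hle : (maximalIdeal R ^ t • (⊤ : Submodule R (QuotSMulTop (a ^ t) C))) =
        (maximalIdeal R ^ t • (⊤ : Submodule R C)).map ((a ^ t) • (⊤ : Submodule R C)).mkQ := by
      rw [Submodule.map_smul'', Submodule.map_top, Submodule.range_mkQ]
    rw [hle] at h
    obtain ⟨y, hy, hyx⟩ := h
    have hsub : r • x - y ∈ (a ^ t) • (⊤ : Submodule R C) := by
      rw [← Submodule.Quotient.mk_eq_zero, Submodule.Quotient.mk_sub, sub_eq_zero]
      exact hyx.symm
    have hle' : (a ^ t) • (⊤ : Submodule R C) ≤ maximalIdeal R ^ t • ⊤ := by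
      intro z hz
      obtain ⟨w, -, rfl⟩ := (Submodule.mem_smul_pointwise_iff_exists _ _ _).mp hz
      exact Submodule.smul_mem_smul hb trivial
    simpa using add_mem (hle' hsub) hy

section dual

variable {E : Type u} [AddCommGroup E] [Module R E] {g₀ : ResidueField R →ₗ[R] E}
  (hf : InjHull.IsInjectiveHull g₀) {D : Type u} [AddCommGroup D] [Module R D] [Module.Finite R D]

include hf in
lemma isSMulRegular_dual {m : ℕ} (hC : CMType (R := R) (m + 1) C)
    (e : (D →ₗ[R] E) ≃ₗ[R] LocCoh.H (maximalIdeal R) (m + 1) C) (a : R) (ha : a ∈ maximalIdeal R)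
    (hreg : IsSMulRegular C a) : IsSMulRegular D a := by
  rw [isSMulRegular_iff_right_eq_zero_of_smul]
  intro x hx
  by_contra hne
  obtain ⟨h, hh⟩ := InjHullLib.exists_ne_zero hf hne
  have hS := IsSMulRegular.smulShortComplex_shortExact (M := ModuleCat.of R C) hreg
  haveI := subsingleton_of_supportDim_lt (maximalIdeal R) (QuotSMulTop a C) (m + 1)
    (by rw [(hC.quot a ha hreg).dim]; exact_mod_cast Nat.lt_succ_self m)
  obtain ⟨w, hw⟩ := exists_of_map_g_eq_zero (maximalIdeal R) hS (m + 1) (e h)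
    (Subsingleton.elim (α := LocCoh.H (maximalIdeal R) (m + 1) (QuotSMulTop a C)) _ _)
  let w' : LocCoh.H (maximalIdeal R) (m + 1) C := w
  have hw' : a • w' = e h := by
    rw [← hw, ModuleCat.smulShortComplex_f_eq_smul_id]
    exact (map_smul_id (maximalIdeal R) (m + 1) (ModuleCat.of R C) a w).symm
  refine hh ?_
  rw [← e.symm_apply_apply h, ← hw', map_smul, LinearMap.smul_apply, ← map_smul, hx, map_zero]

include hf in
lemma isSMulRegular_of_dual {m : ℕ} (hC : CMType (R := R) (m + 1) C)
    (e : (D →ₗ[R] E) ≃ₗ[R] LocCoh.H (maximalIdeal R) (m + 1) C) (a : R) (hreg : IsSMulRegular D a) :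
    IsSMulRegular C a := by
  rw [isSMulRegular_iff_right_eq_zero_of_smul]
  intro x hx
  by_contra hne
  have hz : a ∈ ⋃ q ∈ associatedPrimes R C, (q : Set R) := by
    rw [biUnion_associatedPrimes_eq_zero_divisors]
    exact ⟨x, hne, hx⟩
  simp only [Set.mem_iUnion, SetLike.mem_coe, exists_prop] at hz
  obtain ⟨q, hq, haq⟩ := hz
  haveI := hq.isPrime
  haveI := hC.nontrivial
  -- `dim R/q = m + 1`
  have hann : ∀ r : R, (∀ x : C, r • x = 0) ↔ ∀ y : D, r • y = 0 := fun r => by
    rw [← GorLib.smul_dual_eq_zero_iff hf r (N := D)]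
    constructor
    · intro h ξ
      apply e.injective
      rw [map_smul, map_zero, ← map_smul_id (maximalIdeal R) (m + 1) (ModuleCat.of R C) r (e ξ),
        show r • 𝟙 (ModuleCat.of R C) = 0 from ModuleCat.hom_ext (LinearMap.ext fun c => h c), Functor.map_zero]
      rfl
    · intro h
      refine smul_eq_zero_of_smul_H r (m + 1) C hC fun z => e.symm.injective ?_
      rw [map_smul, h, map_zero]
  have hCann : Module.annihilator R C = Module.annihilator R D := by
    ext r
    rw [Module.mem_annihilator, Module.mem_annihilator]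
    exact hann r
  obtain ⟨dq, hdq⟩ : ∃ dq : ℕ, ringKrullDim (R ⧸ q) = dq := by
    haveI : Nontrivial (R ⧸ q) := Ideal.Quotient.nontrivial_iff.mpr hq.isPrime.ne_top
    haveI : IsLocalRing (R ⧸ q) := .of_surjective' (Ideal.Quotient.mk q) Ideal.Quotient.mk_surjective
    exact RegLocal.exists_nat_ringKrullDim _
  have hqann : Module.annihilator R C ≤ q := by
    have := hq.annihilator_le
    rwa [Submodule.annihilator_top] at this
  have hdim : Module.supportDim R C = ringKrullDim (R ⧸ Module.annihilator R C) :=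
    Module.supportDim_eq_ringKrullDim_quotient_annihilator R C
  have hup : dq ≤ m + 1 := by
    have h1 := ringKrullDim_le_of_surjective (Ideal.Quotient.factor hqann) (Ideal.Quotient.factor_surjective hqann)
    rw [hdq, ← hdim, hC.dim] at h1
    exact_mod_cast h1
  have hlow : m + 1 ≤ dq := by
    by_contra hlt
    obtain ⟨dd, hdd⟩ : ∃ dd : ℕ, LocCoh.depth R C = dd := by
      obtain ⟨rs, hrs⟩ := Depth.exists_isMaxSeq (I := maximalIdeal R) (M := C) CAlgBasics.maximalIdeal_smul_top_ne_top
      exact ⟨rs.length, Depth.idealDepth_eq_length CAlgBasics.maximalIdeal_smul_top_ne_top hrs⟩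
    have hm1 : m + 1 ≤ dd := by
      have := (GorLib.natCast_le_depth_iff_subsingleton_H C (m + 1)).mpr fun j hj => hC.vanish j hj
      rw [hdd, Nat.cast_le] at this
      exact this
    haveI := subsingleton_ext_of_supportDim C dd hdd dq (R ⧸ q)
      (by rw [Module.supportDim_quotient_eq_ringKrullDim, hdq]) 0 (by omega)
    obtain ⟨-, φ, hφ⟩ := (isAssociatedPrime_iff_exists_injective_linearMap _ _).1 hq
    have h0 : (ModuleCat.ofHom φ) = 0 := (Abelian.Ext.mk₀_bijective _ _).1 (Subsingleton.elim _ _)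
    exact one_ne_zero (α := R ⧸ q) (hφ (by rw [map_zero]; exact congr($(h0).hom (1 : R ⧸ q))))
  obtain rfl : dq = m + 1 := le_antisymm hup hlow
  obtain ⟨q', hq', hq'q⟩ := Ideal.exists_minimalPrimes_le (hCann ▸ hqann : Module.annihilator R D ≤ q)
  haveI := hq'.1.1
  have hq'd : ringKrullDim (R ⧸ q') = ((m + 1 : ℕ) : WithBot ℕ∞) := by
    refine le_antisymm ?_ ?_
    · rw [← hC.dim, hdim]
      exact ringKrullDim_le_of_surjective (Ideal.Quotient.factor (hCann.le.trans hq'.1.2))
        (Ideal.Quotient.factor_surjective (hCann.le.trans hq'.1.2))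
    · rw [← hdq]
      exact ringKrullDim_le_of_surjective (Ideal.Quotient.factor hq'q) (Ideal.Quotient.factor_surjective hq'q)
  have heq : q' = q := eq_of_le_of_dim hq'q (m + 1) hq'd hdq
  have hqD : q ∈ associatedPrimes R D := heq ▸ Module.associatedPrimes.minimalPrimes_annihilator_subset_associatedPrimes R D hq'
  have hmem : a ∈ ⋃ q ∈ associatedPrimes R D, (q : Set R) := Set.mem_biUnion hqD haq
  rw [biUnion_associatedPrimes_eq_zero_divisors] at hmem
  obtain ⟨y, hy, hay⟩ := hmem
  exact hy (hreg (hay.trans (smul_zero a).symm))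

include hf in
omit [Module.Finite R D] in
lemma nonempty_dual_quot {m : ℕ} (hC : CMType (R := R) (m + 1) C)
    (e : (D →ₗ[R] E) ≃ₗ[R] LocCoh.H (maximalIdeal R) (m + 1) C) (a : R) (hreg : IsSMulRegular C a) :
    Nonempty ((QuotSMulTop a D →ₗ[R] E) ≃ₗ[R] LocCoh.H (maximalIdeal R) m (QuotSMulTop a C)) := by
  obtain ⟨ψ, hψ, hψr⟩ := hC.exists_δ a hreg
  let π : D →ₗ[R] QuotSMulTop a D := (a • (⊤ : Submodule R D)).mkQ
  let ι' : (QuotSMulTop a D →ₗ[R] E) →ₗ[R] LocCoh.H (maximalIdeal R) (m + 1) C := e.toLinearMap ∘ₗ LinearMap.lcomp R E π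
  have hι : Function.Injective ι' := e.injective.comp fun u v h => LinearMap.ext fun x => by
    obtain ⟨y, rfl⟩ := Submodule.mkQ_surjective _ x
    exact LinearMap.congr_fun h y
  have hrange : LinearMap.range ι' = LinearMap.range ψ := by
    ext z
    rw [LinearMap.mem_range, LinearMap.mem_range, ← hψr z]
    constructor
    · rintro ⟨u, rfl⟩
      rw [← map_smul, show a • u = 0 from LinearMap.ext fun x => by
        obtain ⟨y, rfl⟩ := Submodule.mkQ_surjective _ x
        rw [LinearMap.smul_apply, ← map_smul, ← map_smul, Submodule.mkQ_apply,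
          (Submodule.Quotient.mk_eq_zero _).mpr (Submodule.smul_mem_pointwise_smul y a (⊤ : Submodule R D) trivial),
          map_zero, LinearMap.zero_apply], map_zero]
    · intro h
      refine ⟨(a • (⊤ : Submodule R D)).liftQ (e.symm z) fun x hx => ?_, e.symm.injective ?_⟩
      · obtain ⟨w, -, rfl⟩ := (Submodule.mem_smul_pointwise_iff_exists _ _ _).mp hx
        rw [LinearMap.mem_ker, map_smul, ← LinearMap.smul_apply, ← map_smul, h, map_zero, LinearMap.zero_apply]
      · change e.symm (e ((LinearMap.lcomp R E π) _)) = e.symm z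
        rw [LinearEquiv.symm_apply_apply]
        exact LinearMap.ext fun x => rfl
  exact ⟨LinearEquiv.ofInjective ι' hι ≪≫ₗ LinearEquiv.ofEq _ _ hrange ≪≫ₗ (LinearEquiv.ofInjective ψ hψ).symm⟩

include hf in
/-- The regular sequences of `C` and of its dual partner `D` agree. -/
theorem isWeaklyRegular_iff : ∀ (as : List R), (∀ a ∈ as, a ∈ maximalIdeal R) → ∀ (m : ℕ)
    (C : Type u) [AddCommGroup C] [Module R C] [Module.Finite R C] (D : Type u) [AddCommGroup D] [Module R D]
    [Module.Finite R D], CMType (R := R) m C → ∀ (e : (D →ₗ[R] E) ≃ₗ[R] LocCoh.H (maximalIdeal R) m C),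
    (IsWeaklyRegular C as ↔ IsWeaklyRegular D as) ∧ (IsWeaklyRegular C as →
      Nonempty (((D ⧸ (Ideal.ofList as • (⊤ : Submodule R D))) →ₗ[R] E) ≃ₗ[R]
        LocCoh.H (maximalIdeal R) (m - as.length) (C ⧸ (Ideal.ofList as • (⊤ : Submodule R C))))) := by
  intro as
  induction as with
  | nil =>
    intro _ m C _ _ _ D _ _ _ hC e
    refine ⟨iff_of_true (IsWeaklyRegular.nil R C) (IsWeaklyRegular.nil R D), fun _ => ?_⟩
    have hbot : ∀ (X : Type u) [AddCommGroup X] [Module R X], (Ideal.ofList ([] : List R) • (⊤ : Submodule R X)) = ⊥ :=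
      fun X _ _ => by rw [Ideal.ofList_nil, Submodule.bot_smul]
    exact ⟨(Submodule.quotEquivOfEqBot _ (hbot D)).arrowCongr (LinearEquiv.refl R E) ≪≫ₗ e ≪≫ₗ
      ((localCohomology (maximalIdeal R) m).mapIso (Submodule.quotEquivOfEqBot _ (hbot C)).symm.toModuleIso).toLinearEquiv⟩
  | cons a as ih =>
    intro hm m C _ _ _ D _ _ _ hC e
    have ha : a ∈ maximalIdeal R := hm a List.mem_cons_self
    rw [isWeaklyRegular_cons_iff, isWeaklyRegular_cons_iff]
    rcases m with _ | m
    · -- dimension zero: no regular element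
      have h0 : ¬ IsSMulRegular C a := fun hreg => by
        haveI := hC.nontrivial
        have h1 := Module.supportDim_quotSMulTop_succ_eq_supportDim_mem_jacobson hreg
          (IsLocalRing.maximalIdeal_le_jacobson _ ha)
        rw [hC.dim] at h1
        haveI : Nontrivial (QuotSMulTop a C) := Submodule.Quotient.nontrivial_iff.mpr fun htop =>
          top_ne_bot (Submodule.eq_bot_of_le_smul_of_le_jacobson_bot (maximalIdeal R) (⊤ : Submodule R C)
            Module.Finite.fg_top (htop.symm.le.trans fun z hz => by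
              obtain ⟨w, -, rfl⟩ := (Submodule.mem_smul_pointwise_iff_exists _ _ _).mp hz
              exact Submodule.smul_mem_smul ha trivial) (IsLocalRing.maximalIdeal_le_jacobson _))
        revert h1
        generalize hx : Module.supportDim R (QuotSMulTop a C) = x
        induction x with
        | bot => exact absurd hx (Module.supportDim_ne_bot_of_nontrivial _ _)
        | coe x =>
          intro h1
          have h' : (x + 1 : ℕ∞) = ((0 : ℕ) : ℕ∞) := WithBot.coe_eq_coe.mp h1
          simp at h'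
      have h0' : ¬ IsSMulRegular D a := fun hreg => by
        haveI := hC.nontrivial
        have htor := isPowerTorsion_of_supportDim_le_zero C hC.dim.le
        obtain ⟨N, hN⟩ := exists_pow_killedBy C htor
        have hH : ∀ z : LocCoh.H (maximalIdeal R) 0 C, a ^ N • z = 0 := fun z => h0_injective (by
          rw [map_smul, map_zero]
          exact hN _ (Ideal.pow_mem_pow ha N) _)
        have hdual : ∀ ξ : D →ₗ[R] E, a ^ N • ξ = 0 := fun ξ => e.injective (by rw [map_smul, hH, map_zero])
        have hD : ∀ y : D, y = 0 := fun y =>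
          (hreg.pow N) (((GorLib.smul_dual_eq_zero_iff hf (a ^ N) (N := D)).mp hdual y).trans (smul_zero _).symm)
        obtain ⟨x, hx⟩ := exists_ne (0 : C)
        obtain ⟨z, hz⟩ := (range_h0 (I := maximalIdeal R) (M := ModuleCat.of R C)).ge (htor x)
        refine hx ?_
        rw [← hz, ← e.apply_symm_apply z, show e.symm z = 0 from LinearMap.ext fun y => by
          rw [hD y, map_zero, LinearMap.zero_apply], map_zero, map_zero]
      exact ⟨iff_of_false (fun h => h0 h.1) (fun h => h0' h.1), fun h => absurd h.1 h0⟩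
    have hiff : IsSMulRegular C a ↔ IsSMulRegular D a :=
      ⟨isSMulRegular_dual hf hC e a ha, isSMulRegular_of_dual hf hC e a⟩
    by_cases hreg : IsSMulRegular C a
    swap
    · exact ⟨iff_of_false (fun h => hreg h.1) (fun h => hreg (hiff.mpr h.1)), fun h => absurd h.1 hreg⟩
    obtain ⟨e'⟩ := nonempty_dual_quot hf hC e a hreg
    obtain ⟨h1, h2⟩ := ih (fun b hb => hm b (List.mem_cons_of_mem a hb)) m (QuotSMulTop a C) (QuotSMulTop a D)
      (hC.quot a ha hreg) e'
    refine ⟨and_congr hiff h1, fun h => ?_⟩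
    obtain ⟨e''⟩ := h2 h.2
    rw [List.length_cons, Nat.succ_sub_succ]
    exact ⟨(Submodule.quotOfListConsSMulTopEquivQuotSMulTopInner D a as).arrowCongr (LinearEquiv.refl R E) ≪≫ₗ e'' ≪≫ₗ
      ((localCohomology (maximalIdeal R) (m - as.length)).mapIso
        (Submodule.quotOfListConsSMulTopEquivQuotSMulTopInner C a as).symm.toModuleIso).toLinearEquiv⟩

end dual

section endo

variable {R : Type u} [CommRing R] [LocCoh.IsCohenMacaulayLocalRing R] {d : ℕ} {E : Type u} [AddCommGroup E]
  [Module R E] {g₀ : ResidueField R →ₗ[R] E} {K : Type u} [AddCommGroup K] [Module R K] [Module.Finite R K]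

lemma cmType_self (hd : ringKrullDim R = d) : CMType (R := R) d R :=
  ⟨(Module.supportDim_self_eq_ringKrullDim R).trans hd,
    fun i hi => (GorLib.natCast_le_depth_iff_subsingleton_H R d).mp (depth_self_eq hd).ge i hi⟩

variable (hd : ringKrullDim R = d) (hf : InjHull.IsInjectiveHull g₀)
  (eK : (K →ₗ[R] E) ≃ₗ[R] LocCoh.H (maximalIdeal R) d R)

include hd eK in
/-- The canonical module is faithful. -/
theorem faithful (r : R) (hr : ∀ x : K, r • x = 0) : r = 0 := by
  have h := smul_eq_zero_of_smul_H r d R (cmType_self hd) (fun z => eK.symm.injective (by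
    rw [map_smul, map_zero]
    exact LinearMap.ext fun x => by rw [LinearMap.smul_apply, ← map_smul, hr x, map_zero, LinearMap.zero_apply])) 1
  simpa using h

include hd hf eK in
lemma socle_cyclic (s₀ : LocCoh.H (maximalIdeal R) d K) (hs₀ : ∀ b ∈ maximalIdeal R, b • s₀ = 0) (h₀ : s₀ ≠ 0)
    (s : LocCoh.H (maximalIdeal R) d K) (hs : ∀ b ∈ maximalIdeal R, b • s = 0) : ∃ c : R, s = c • s₀ := by
  have hV : Van (maximalIdeal R) (ModuleCat.of R K) d := by
    intro F _ _ hF hk i hi
    obtain ⟨k, hk⟩ := hk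
    haveI := hF
    refine (subsingleton_ext_iff hd hf eK F 1 i (by omega)).mpr ?_
    refine subsingleton_of_supportDim_lt (maximalIdeal R) F 1 ?_
    have hsub : Subsingleton (Module.support R F) := ⟨fun p q => Subtype.ext (PrimeSpectrum.ext
      (((maximalIdeal.isMaximal R).eq_of_le p.1.isPrime.ne_top fun a ha => support_subset_of_killedBy hk p.2 ha).symm.trans
        ((maximalIdeal.isMaximal R).eq_of_le q.1.isPrime.ne_top fun a ha => support_subset_of_killedBy hk q.2 ha)))⟩
    have hle : Module.supportDim R F ≤ 0 := Order.krullDim_nonpos_of_subsingleton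
    exact lt_of_le_of_lt hle (by exact_mod_cast Nat.one_pos)
  have hF : KilledBy (maximalIdeal R) 1 (R ⧸ (maximalIdeal R)) := fun b hb x => by
    obtain ⟨y, rfl⟩ := Ideal.Quotient.mk_surjective x
    rw [pow_one] at hb
    rw [Algebra.smul_def, Ideal.Quotient.algebraMap_eq, Ideal.Quotient.eq_zero_iff_mem.mpr hb, zero_mul]
  obtain ⟨eX⟩ := nonempty_ext_equiv_hom (G := ModuleCat.of R K) (n := d) hV hF
  obtain ⟨eD⟩ := local_duality hd hf.isInjective eK d 0 (by omega) (R ⧸ (maximalIdeal R))
  -- the dual of `Hom(R/(maximalIdeal R), H^d K)` is cyclic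
  let Φ' := eD ≪≫ₗ eX.arrowCongr (LinearEquiv.refl R E)
  obtain ⟨t₀, ht₀⟩ : ∃ t₀, h0 (maximalIdeal R) (ModuleCat.of R (R ⧸ (maximalIdeal R))) t₀ = (1 : R ⧸ (maximalIdeal R)) :=
    (range_h0 (I := (maximalIdeal R)) (M := ModuleCat.of R (R ⧸ (maximalIdeal R)))).ge ⟨1, fun b hb => hF b hb _⟩
  have hgen : ∀ η, ∃ c : R, η = c • Φ' t₀ := fun η => by
    obtain ⟨t, rfl⟩ := Φ'.surjective η
    obtain ⟨c, hc⟩ := Ideal.Quotient.mk_surjective (h0 (maximalIdeal R) (ModuleCat.of R (R ⧸ (maximalIdeal R))) t)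
    refine ⟨c, ?_⟩
    rw [← map_smul]
    refine congrArg Φ' (h0_injective ?_)
    rw [map_smul, ht₀, ← hc, Algebra.smul_def, mul_one]
    rfl
  let η₀ := Φ' t₀
  let y : ∀ t : LocCoh.H (maximalIdeal R) d K, (∀ b ∈ (maximalIdeal R), b • t = 0) → ((R ⧸ (maximalIdeal R)) →ₗ[R] LocCoh.H (maximalIdeal R) d K) :=
    fun t ht => Submodule.liftQ (maximalIdeal R) (LinearMap.toSpanSingleton R _ t) fun b hb => LinearMap.mem_ker.mpr (ht b hb)
  have hy1 : ∀ (t : LocCoh.H (maximalIdeal R) d K) (ht : ∀ b ∈ (maximalIdeal R), b • t = 0), y t ht (Ideal.Quotient.mk (maximalIdeal R) 1) = t :=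
    fun t ht => one_smul R t
  have hmY : ∀ b ∈ (maximalIdeal R), ∀ φ : (R ⧸ (maximalIdeal R)) →ₗ[R] LocCoh.H (maximalIdeal R) d K, b • φ = 0 := fun b hb φ => LinearMap.ext fun x => by
    rw [LinearMap.smul_apply, ← map_smul, hF b (by rwa [pow_one]) x, map_zero, LinearMap.zero_apply]
  by_contra hne
  push Not at hne
  let Y := (R ⧸ (maximalIdeal R)) →ₗ[R] LocCoh.H (maximalIdeal R) d K
  let y₁ : Y := y s hs
  let y₀ : Y := y s₀ hs₀
  have hy₁ : Submodule.Quotient.mk y₁ ≠ (0 : Y ⧸ Submodule.span R {y₀}) := fun h => by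
    obtain ⟨c, hc⟩ := Submodule.mem_span_singleton.mp ((Submodule.Quotient.mk_eq_zero _).mp h)
    refine hne c ?_
    rw [← hy1 s hs, ← hy1 s₀ hs₀]
    exact (LinearMap.congr_fun hc _).symm
  obtain ⟨ξ, hξ⟩ := InjHullLib.exists_ne_zero hf hy₁
  have hy₀ : y₀ ≠ 0 := fun h => h₀ (by rw [← hy1 s₀ hs₀]; exact LinearMap.congr_fun h _)
  obtain ⟨ξ', hξ'⟩ := InjHullLib.exists_ne_zero hf hy₀
  obtain ⟨c, hc⟩ := hgen (ξ ∘ₗ (Submodule.span R {y₀}).mkQ)
  obtain ⟨c', hc'⟩ := hgen ξ'
  have h1 : η₀ y₀ ≠ 0 := fun h => hξ' (by rw [hc', LinearMap.smul_apply]; change c' • η₀ y₀ = 0; rw [h, smul_zero])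
  have hcm : c ∈ (maximalIdeal R) := by
    by_contra hcm
    obtain ⟨u, hu⟩ := ((IsLocalRing.notMem_maximalIdeal).mp hcm).exists_left_inv
    have h2 : c • η₀ y₀ = 0 := by
      have := LinearMap.congr_fun hc y₀
      rw [LinearMap.comp_apply, Submodule.mkQ_apply,
        (Submodule.Quotient.mk_eq_zero _).mpr (Submodule.mem_span_singleton_self y₀), map_zero] at this
      exact this.symm
    exact h1 (by rw [← one_smul R (η₀ y₀), ← hu, mul_smul, h2, smul_zero])
  refine hξ ?_
  have h3 := LinearMap.congr_fun hc y₁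
  rw [LinearMap.comp_apply, Submodule.mkQ_apply] at h3
  rw [h3, LinearMap.smul_apply, ← map_smul, hmY c hcm, map_zero]

include hd hf eK in
/-- `End K = R`. -/
theorem bijective_smul_id : Function.Bijective (fun r : R => r • (LinearMap.id : K →ₗ[R] K)) := by
  refine ⟨fun r r' h => sub_eq_zero.mp (faithful hd eK _ fun x => ?_), fun u => ?_⟩
  · rw [sub_smul, sub_eq_zero]
    exact LinearMap.congr_fun h x
  have hcd : LocCoh.CdLE R (maximalIdeal R) d := cdLE_of_ringKrullDim_local _ d hd.le
  let W := K →ₗ[R] K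
  let id' : W := LinearMap.id
  haveI := nontrivial_canonical hd eK
  have hid : id' ∉ (maximalIdeal R) • (⊤ : Submodule R W) := fun h => by
    refine CAlgBasics.maximalIdeal_smul_top_ne_top (R := R) (M := K) (eq_top_iff.mpr fun x _ => ?_)
    have hle : (maximalIdeal R) • (⊤ : Submodule R W) ≤ ((maximalIdeal R) • (⊤ : Submodule R K)).comap (LinearMap.applyₗ x) :=
      Submodule.smul_le.mpr fun b hb v _ => Submodule.smul_mem_smul hb trivial
    exact hle h
  have hid' : Submodule.Quotient.mk id' ≠ (0 : W ⧸ (maximalIdeal R) • (⊤ : Submodule R W)) :=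
    fun h => hid ((Submodule.Quotient.mk_eq_zero _).mp h)
  obtain ⟨ξ₀, hξ₀⟩ := InjHullLib.exists_ne_zero hf hid'
  let ce := cdualEquiv (maximalIdeal R) d hcd eK hf.isInjective K
  obtain ⟨s₀, hs₀⟩ := ce.surjective (ξ₀ ∘ₗ ((maximalIdeal R) • (⊤ : Submodule R W)).mkQ)
  have htr : ∀ z, ce z id' = trace (maximalIdeal R) d hcd eK z := fun z => by
    change cdual (maximalIdeal R) d hcd eK K z LinearMap.id = _
    rw [cdual_apply, ModuleCat.ofHom_id, CategoryTheory.Functor.map_id]
    rfl
  have hsoc : ∀ b ∈ (maximalIdeal R), b • s₀ = 0 := fun b hb => ce.injective (by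
    rw [map_smul, hs₀, map_zero]
    refine LinearMap.ext fun v => ?_
    rw [LinearMap.smul_apply, ← map_smul, LinearMap.comp_apply, Submodule.mkQ_apply,
      (Submodule.Quotient.mk_eq_zero _).mpr (Submodule.smul_mem_smul (N := (⊤ : Submodule R W)) hb (Submodule.mem_top (x := v))),
      map_zero, LinearMap.zero_apply])
  have hne₀ : trace (maximalIdeal R) d hcd eK s₀ ≠ 0 := by rw [← htr, hs₀]; exact hξ₀
  by_contra hu
  push Not at hu
  have hu' : Submodule.Quotient.mk u ≠ (0 : W ⧸ Submodule.span R {id'}) := fun h => by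
    obtain ⟨c, hc⟩ := Submodule.mem_span_singleton.mp ((Submodule.Quotient.mk_eq_zero _).mp h)
    exact hu c hc
  obtain ⟨ξ, hξ⟩ := InjHullLib.exists_ne_zero hf hu'
  obtain ⟨z, hz⟩ := ce.surjective (ξ ∘ₗ (Submodule.span R {id'}).mkQ)
  have hz0 : ∀ r : R, trace (maximalIdeal R) d hcd eK (r • z) = 0 := fun r => by
    rw [map_smul, ← htr, hz, LinearMap.comp_apply, Submodule.mkQ_apply,
      (Submodule.Quotient.mk_eq_zero _).mpr (Submodule.mem_span_singleton_self id'), map_zero, smul_zero]
  have hzne : z ≠ 0 := fun h => hξ (by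
    have := LinearMap.congr_fun hz u
    rw [h, map_zero, LinearMap.zero_apply] at this
    exact this.symm)
  -- a nonzero socle element in `R • z`
  have hex : ∃ k, ∀ b ∈ (maximalIdeal R) ^ k, b • z = 0 := isPowerTorsion_H (maximalIdeal R) d (ModuleCat.of R K) z
  classical
  have hk0 : Nat.find hex ≠ 0 := fun h0' => hzne (by
    have := Nat.find_spec hex
    rw [h0', pow_zero] at this
    simpa using this 1 (by rw [Ideal.one_eq_top]; trivial))
  obtain ⟨k, hk⟩ := Nat.exists_eq_succ_of_ne_zero hk0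
  have hmin : ¬ ∀ b ∈ (maximalIdeal R) ^ k, b • z = 0 := Nat.find_min hex (by omega)
  push Not at hmin
  obtain ⟨r, hr, hrz⟩ := hmin
  obtain ⟨c, hc⟩ := socle_cyclic hd hf eK s₀ hsoc (fun h => hne₀ (by rw [h, map_zero])) (r • z) fun b hb => by
    rw [smul_smul]
    have := Nat.find_spec hex
    rw [hk, pow_succ] at this
    exact this _ (by rw [mul_comm b r]; exact Ideal.mul_mem_mul hr hb)
  by_cases hcm : c ∈ (maximalIdeal R)
  · exact hrz (by rw [hc, hsoc c hcm])
  obtain ⟨v, hv⟩ := ((IsLocalRing.notMem_maximalIdeal).mp hcm).exists_left_inv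
  refine hne₀ ?_
  rw [← one_smul R s₀, ← hv, mul_smul, ← hc, map_smul, hz0, smul_zero]

end endo

end Groth.Agent.CanonLib
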