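import Mathlib
import Groth.Agent.GorLib.LocalDuality
import Groth.Agent.GorLib.Bass
import Groth.Agent.LocCohLib.Flasque
import Groth.Agent.MatlisLib.Change
import Groth.Agent.CanonLib.Existence

/-! `Ext^c_A(R, A)` is a canonical module of a quotient `R` of a Gorenstein local ring `A`. -/

set_option autoImplicit false
universe u

namespace Groth.Agent.CanonLib

open CategoryTheory Limits IsLocalRing LocCohLib

variable {A : Type u} [CommRing A] {R : Type u} [CommRing R] [Algebra A R]

/-- `Ext^c_A(R, A)` is a canonical module of `R`. -/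
theorem exists_canonical_ext [IsNoetherianRing R] [IsLocalRing R] (hG : LocCoh.IsGorensteinLocalRing A)
    (hs : Function.Surjective (algebraMap A R)) (n : ℕ) (hn : ringKrullDim R = n)
    {E : Type u} [AddCommGroup E] [Module R E] {f : ResidueField R →ₗ[R] E} (hf : InjHull.IsInjectiveHull f) :
    ∃ (d : ℕ) (_ : ringKrullDim A = d) (K : ModuleCat.{u} R), n ≤ d ∧ Module.Finite R K ∧
      (∃ e : Abelian.Ext.{u} (ModuleCat.of A R) (ModuleCat.of A A) (d - n) ≃+ K,
        ∀ (a : A) x, e (a • x) = algebraMap A R a • e x) ∧
      Nonempty ((K →ₗ[R] E) ≃ₗ[R] LocCoh.H (maximalIdeal R) n R) := by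
  haveI := hG.toIsLocalRing
  haveI : IsNoetherianRing A := by haveI := hG; infer_instance
  obtain ⟨d, hd⟩ : ∃ d : ℕ, ringKrullDim A = d := RegLocal.exists_nat_ringKrullDim A
  have hnd : n ≤ d := by
    have h := ringKrullDim_le_of_surjective (algebraMap A R) hs
    rw [hn, hd] at h
    exact_mod_cast h
  let E₁ : Type u := ((localCohomology (maximalIdeal A) d).obj (ModuleCat.of A A) : Type u)
  obtain ⟨g₁, hg₁⟩ := GorLib.exists_hull_H hG hd
  haveI : Module.Finite A R := Module.Finite.of_surjective (Algebra.linearMap A R) hs
  let X : Type u := Abelian.Ext.{u} (ModuleCat.of A R) (ModuleCat.of A A) (d - n)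
  haveI : Module.Finite A X := GorLib.finite_ext (d - n) (ModuleCat.of A R) (ModuleCat.of A A)
  have hkill : ∀ a : A, algebraMap A R a = 0 → ∀ x : X, a • x = 0 := fun a ha x => by
    rw [← Abelian.Ext.mk₀_id_comp x, ← Abelian.Ext.smul_comp, ← Abelian.Ext.mk₀_smul,
      show a • 𝟙 (ModuleCat.of A R) = 0 from ModuleCat.hom_ext (LinearMap.ext fun y => by
        change a • y = 0
        rw [Algebra.smul_def, ha, zero_mul]),
      Abelian.Ext.mk₀_zero, Abelian.Ext.zero_comp]
  -- `X` as an `R`-module
  letI : Module (A ⧸ RingHom.ker (algebraMap A R)) X :=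
    Module.IsTorsionBySet.module (R := A) (I := RingHom.ker (algebraMap A R)) fun x a => hkill a a.2 x
  letI : Module R X := Module.compHom X (RingHom.quotientKerEquivOfSurjective hs).symm.toRingHom
  haveI : IsScalarTower A R X := IsScalarTower.of_algebraMap_smul fun a x => by
    change (RingHom.quotientKerEquivOfSurjective hs).symm (algebraMap A R a) • x = a • x
    rw [show (RingHom.quotientKerEquivOfSurjective hs).symm (algebraMap A R a) = Ideal.Quotient.mk _ a from
      (RingEquiv.symm_apply_eq _).mpr rfl]
    rfl
  haveI : Module.Finite R X := Module.Finite.of_restrictScalars_finite A R X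
  -- the hull over `R`
  letI := coindModule (A := A) (R := R) E₁
  let W : Type u := R →ₗ[A] E₁
  obtain ⟨g₂, hg₂⟩ := MatlisLib.exists_hull_coinduced (B := R) hg₁ W
    { toFun := fun w => w 1, map_zero' := rfl, map_add' := fun _ _ => rfl }
    (fun a w => by
      change w (1 * algebraMap A R a) = a • w 1
      rw [one_mul, ← map_smul, Algebra.smul_def, mul_one])
    (fun φ => ⟨φ, fun b => by change φ (1 * b) = φ b; rw [one_mul]⟩)
    (fun w hw => LinearMap.ext fun b => by
      have := hw b
      change w (1 * b) = 0 at this
      rw [one_mul] at this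
      exact this)
  obtain ⟨eE, -⟩ := InjHullLib.exists_linearEquiv hf hg₂
  -- adjunction
  let adj : (X →ₗ[R] W) ≃+ (X →ₗ[A] E₁) :=
    { toFun := fun φ =>
        { toFun := fun x => φ x 1
          map_add' := fun x y => by rw [map_add]; rfl
          map_smul' := fun a x => by
            rw [← algebraMap_smul R a x, map_smul, RingHom.id_apply]
            change φ x (1 * algebraMap A R a) = a • φ x 1
            rw [one_mul, ← map_smul, Algebra.smul_def, mul_one] }
      invFun := fun ψ =>
        { toFun := fun x =>
            { toFun := fun b => ψ (b • x)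
              map_add' := fun b b' => by rw [add_smul, map_add]
              map_smul' := fun a b => by rw [smul_assoc, map_smul, RingHom.id_apply] }
          map_add' := fun x y => LinearMap.ext fun b => by
            change ψ (b • (x + y)) = ψ (b • x) + ψ (b • y)
            rw [smul_add, map_add]
          map_smul' := fun c x => LinearMap.ext fun b => by
            change ψ (b • c • x) = ψ ((b * c) • x)
            rw [mul_smul] }
      left_inv := fun φ => LinearMap.ext fun x => LinearMap.ext fun b => by
        change φ (b • x) 1 = φ x b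
        rw [map_smul]
        change φ x (1 * b) = φ x b
        rw [one_mul]
      right_inv := fun ψ => LinearMap.ext fun x => by
        change ψ ((1 : R) • x) = ψ x
        rw [one_smul]
      map_add' := fun _ _ => rfl }
  have hadj : ∀ (a : A) φ, adj (algebraMap A R a • φ) = a • adj φ := fun a φ => LinearMap.ext fun x => by
    change φ x (1 * algebraMap A R a) = a • φ x 1
    rw [one_mul, ← map_smul, Algebra.smul_def, mul_one]
  obtain ⟨eD⟩ := GorLib.local_duality hG hd (d - n) n (by omega) R
  have hmap : (maximalIdeal A).map (algebraMap A R) = maximalIdeal R := by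
    haveI := IsLocalHom.of_surjective (algebraMap A R) hs
    refine le_antisymm (Ideal.map_le_iff_le_comap.mpr fun a ha hu => ha (isUnit_of_map_unit (algebraMap A R) a hu)) fun y hy => ?_
    obtain ⟨a, rfl⟩ := hs y
    exact Ideal.mem_map_of_mem _ (fun hu => hy (hu.map _))
  obtain ⟨φ, hφ⟩ := exists_indep (R' := R) (maximalIdeal A) R n
  refine ⟨d, hd, ModuleCat.of R X, hnd, inferInstance, ⟨AddEquiv.refl X, fun a x => (algebraMap_smul R a x).symm⟩, ?_⟩
  rw [← hmap]
  let e : (X →ₗ[R] E) ≃+ LocCoh.H ((maximalIdeal A).map (algebraMap A R)) n R :=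
    (((LinearEquiv.refl R X).arrowCongr eE).toAddEquiv.trans adj).trans (eD.symm.toAddEquiv.trans φ.symm)
  refine ⟨{ e with map_smul' := fun c ξ => ?_ }⟩
  obtain ⟨a, rfl⟩ := hs c
  change φ.symm (eD.symm (adj ((LinearEquiv.refl R X).arrowCongr eE (algebraMap A R a • ξ)))) =
    algebraMap A R a • φ.symm (eD.symm (adj ((LinearEquiv.refl R X).arrowCongr eE ξ)))
  rw [map_smul, hadj, map_smul]
  apply φ.injective
  rw [AddEquiv.apply_symm_apply, hφ, AddEquiv.apply_symm_apply]

end Groth.Agent.CanonLib
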